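import Cfsg.Agent.OD.Pre
import Cfsg.Agent.H6.TCTop
import Cfsg.Agent.H6.F23T1.D0
set_option autoImplicit false
set_option maxRecDepth 100000
set_option Elab.async false
set_option linter.all false
namespace CfH6.F23T1
open CfH6
noncomputable def tab0 : Tr := (Tr.n (Tr.n (Tr.n (Tr.n t0 t1) (Tr.n t2 t3)) (Tr.n (Tr.n t4 t5) (Tr.n t6 t7))) (Tr.n (Tr.n (Tr.n t8 t9) (Tr.n t10 t11)) (Tr.n (Tr.n t12 t13) (Tr.n t14 t15))))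
noncomputable def tab1 : Tr := (Tr.n (Tr.n (Tr.n (Tr.n t16 t17) (Tr.n t18 t19)) (Tr.n (Tr.n t20 t21) (Tr.n t22 t23))) (Tr.n (Tr.n (Tr.n t24 t25) (Tr.n t26 t27)) (Tr.n (Tr.n t28 t29) (Tr.n t30 t31))))
noncomputable def tab2 : Tr := (Tr.n (Tr.n (Tr.n (Tr.n t32 t33) (Tr.n t34 t35)) (Tr.n (Tr.n t36 t37) (Tr.n t38 t39))) (Tr.n (Tr.n (Tr.n t40 t41) (Tr.n t42 t43)) (Tr.n (Tr.n t44 t45) (Tr.n t46 t47))))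
noncomputable def tab3 : Tr := (Tr.n (Tr.n (Tr.n (Tr.n t48 t49) (Tr.n t50 t51)) (Tr.n (Tr.n t52 t53) (Tr.n t54 t55))) (Tr.n (Tr.n (Tr.n t56 t57) (Tr.n t58 t59)) (Tr.n (Tr.n t60 t61) (Tr.n t62 t63))))
noncomputable def tab4 : Tr := (Tr.n (Tr.n (Tr.n (Tr.n t64 t65) (Tr.n t66 t67)) (Tr.n (Tr.n t68 t69) (Tr.n t70 t71))) (Tr.n (Tr.n (Tr.n t72 t73) (Tr.n t74 t75)) (Tr.n (Tr.n t76 t77) (Tr.n t78 t79))))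
noncomputable def tab5 : Tr := (Tr.n (Tr.n (Tr.n (Tr.n t80 t81) (Tr.n t82 t83)) (Tr.n (Tr.n t84 t85) (Tr.n t86 t87))) (Tr.n (Tr.n (Tr.n t88 t89) (Tr.n t90 t91)) (Tr.n (Tr.n t92 t93) (Tr.n t94 t95))))
noncomputable def tab6 : Tr := (Tr.n (Tr.n (Tr.n (Tr.n t96 t97) (Tr.n t98 t99)) (Tr.n (Tr.n t100 t101) (Tr.n t102 t103))) (Tr.n (Tr.n (Tr.n t104 t105) (Tr.n t106 t107)) (Tr.n (Tr.n t108 t109) (Tr.n t110 t111))))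
noncomputable def tab7 : Tr := (Tr.n (Tr.n (Tr.n (Tr.n t112 t113) (Tr.n t114 t115)) (Tr.n (Tr.n t116 t117) (Tr.n t118 t119))) (Tr.n (Tr.n (Tr.n t120 t121) (Tr.n t122 t123)) (Tr.n (Tr.n t124 t125) (Tr.n t126 t127))))
noncomputable def tab8 : Tr := (Tr.n (Tr.n (Tr.n (Tr.n t128 t129) (Tr.n t130 t131)) (Tr.n (Tr.n t132 t133) (Tr.n t134 t135))) (Tr.n (Tr.n (Tr.n t136 t137) (Tr.n t138 t139)) (Tr.n (Tr.n t140 t141) (Tr.n t142 t143))))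
noncomputable def tab9 : Tr := (Tr.n (Tr.n (Tr.n (Tr.n t144 t145) (Tr.n t146 t147)) (Tr.n (Tr.n t148 t149) (Tr.n t150 t151))) (Tr.n (Tr.n (Tr.n t152 t153) (Tr.n t154 t155)) (Tr.n (Tr.n t156 t157) (Tr.n t158 t159))))
noncomputable def tab10 : Tr := (Tr.n (Tr.n (Tr.n (Tr.n t160 t161) (Tr.n t162 t163)) (Tr.n (Tr.n t164 t165) (Tr.n t166 t167))) (Tr.n (Tr.n (Tr.n t168 t169) (Tr.n t170 t171)) (Tr.n (Tr.n t172 t173) (Tr.n t174 t175))))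
noncomputable def tab11 : Tr := (Tr.n (Tr.n (Tr.n (Tr.n t176 t177) (Tr.n t178 t179)) (Tr.n (Tr.n t180 t181) (Tr.n t182 t183))) (Tr.n (Tr.n (Tr.n t184 t185) (Tr.n t186 t187)) (Tr.n (Tr.n t188 t189) (Tr.n t190 t191))))
noncomputable def tab12 : Tr := (Tr.n (Tr.n (Tr.n (Tr.n t192 (Tr.l (nat_lit 0))) (Tr.n t193 (Tr.l (nat_lit 0)))) (Tr.n (Tr.n t194 (Tr.l (nat_lit 0))) (Tr.n (Tr.l (nat_lit 0)) t195))) (Tr.n (Tr.n (Tr.n t196 (Tr.l (nat_lit 0))) (Tr.n (Tr.l (nat_lit 0)) t197)) (Tr.n (Tr.n t198 t199) (Tr.n (Tr.l (nat_lit 0)) t200))))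
noncomputable def tab13 : Tr := (Tr.n (Tr.n (Tr.n (Tr.n t201 t202) (Tr.n t203 t204)) (Tr.n (Tr.n t205 t206) (Tr.n (Tr.l (nat_lit 0)) t207))) (Tr.n (Tr.n (Tr.n t208 t209) (Tr.n (Tr.l (nat_lit 0)) t210)) (Tr.n (Tr.n t211 (Tr.l (nat_lit 0))) (Tr.n t212 t213))))
noncomputable def tab14 : Tr := (Tr.n (Tr.n (Tr.n (Tr.n t214 (Tr.l (nat_lit 0))) (Tr.n t215 t216)) (Tr.n (Tr.n t217 (Tr.l (nat_lit 0))) (Tr.n (Tr.l (nat_lit 0)) t218))) (Tr.n (Tr.n (Tr.n t219 (Tr.l (nat_lit 0))) (Tr.n (Tr.l (nat_lit 0)) t220)) (Tr.n (Tr.l (nat_lit 0)) (Tr.n (Tr.l (nat_lit 0)) t221))))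
noncomputable def tab15 : Tr := (Tr.n (Tr.n (Tr.n (Tr.n t222 t223) (Tr.n t224 (Tr.l (nat_lit 0)))) (Tr.n (Tr.n t225 (Tr.l (nat_lit 0))) (Tr.n (Tr.l (nat_lit 0)) t226))) (Tr.n (Tr.n (Tr.n t227 t228) (Tr.n (Tr.l (nat_lit 0)) t229)) (Tr.n (Tr.n t230 (Tr.l (nat_lit 0))) (Tr.n (Tr.l (nat_lit 0)) t231))))
noncomputable def tab16 : Tr := (Tr.n (Tr.n (Tr.n (Tr.n t232 t233) (Tr.n t234 t235)) (Tr.n (Tr.n t236 t237) (Tr.n (Tr.l (nat_lit 0)) t238))) (Tr.n (Tr.n (Tr.n t239 t240) (Tr.n (Tr.l (nat_lit 0)) t241)) (Tr.n (Tr.n t242 t243) (Tr.n (Tr.l (nat_lit 0)) t244))))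
noncomputable def tab17 : Tr := (Tr.n (Tr.n (Tr.n (Tr.n t245 t246) (Tr.n t247 t248)) (Tr.n (Tr.n t249 t250) (Tr.n (Tr.l (nat_lit 0)) t251))) (Tr.n (Tr.n (Tr.n t252 (Tr.l (nat_lit 0))) (Tr.n (Tr.l (nat_lit 0)) t253)) (Tr.n (Tr.l (nat_lit 0)) (Tr.n (Tr.l (nat_lit 0)) t254))))
noncomputable def tab18 : Tr := (Tr.n (Tr.n (Tr.n (Tr.n t255 (Tr.l (nat_lit 0))) (Tr.n t256 t257)) (Tr.n (Tr.n t258 (Tr.l (nat_lit 0))) (Tr.n (Tr.l (nat_lit 0)) t259))) (Tr.n (Tr.n (Tr.n t260 (Tr.l (nat_lit 0))) (Tr.n (Tr.l (nat_lit 0)) t261)) (Tr.n (Tr.n t262 (Tr.l (nat_lit 0))) (Tr.n (Tr.l (nat_lit 0)) t263))))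
noncomputable def tab19 : Tr := (Tr.n (Tr.n (Tr.n (Tr.n t264 (Tr.l (nat_lit 0))) (Tr.n t265 t266)) (Tr.n (Tr.n t267 (Tr.l (nat_lit 0))) (Tr.n (Tr.l (nat_lit 0)) t268))) (Tr.n (Tr.n (Tr.n t269 (Tr.l (nat_lit 0))) (Tr.n (Tr.l (nat_lit 0)) t270)) (Tr.n (Tr.n t271 (Tr.l (nat_lit 0))) (Tr.n (Tr.l (nat_lit 0)) t272))))
noncomputable def tab20 : Tr := (Tr.n (Tr.n (Tr.n (Tr.n t273 t274) (Tr.n t275 t276)) (Tr.n (Tr.n t277 (Tr.l (nat_lit 0))) (Tr.n (Tr.l (nat_lit 0)) t278))) (Tr.n (Tr.n (Tr.n t279 t280) (Tr.n (Tr.l (nat_lit 0)) t281)) (Tr.n (Tr.n t282 t283) (Tr.n (Tr.l (nat_lit 0)) t284))))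
noncomputable def tab21 : Tr := (Tr.n (Tr.n (Tr.n (Tr.n t285 (Tr.l (nat_lit 0))) (Tr.n t286 t287)) (Tr.n (Tr.n t288 (Tr.l (nat_lit 0))) (Tr.n (Tr.l (nat_lit 0)) t289))) (Tr.n (Tr.n (Tr.n t290 t291) (Tr.n (Tr.l (nat_lit 0)) t292)) (Tr.n (Tr.n t293 t294) (Tr.n (Tr.l (nat_lit 0)) t295))))
noncomputable def tab22 : Tr := (Tr.n (Tr.n (Tr.n (Tr.n t296 t297) (Tr.n t298 t299)) (Tr.n (Tr.n t300 t301) (Tr.n t302 t303))) (Tr.n (Tr.n (Tr.n t304 t305) (Tr.n t306 t307)) (Tr.n (Tr.n t308 t309) (Tr.n t310 t311))))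
noncomputable def ty0 : TT := (TT.n (TT.n (TT.n (TT.n (TT.n (TT.l (Ty.ssub [] []))
 (TT.l (Ty.srel [nat_lit 7, nat_lit 0, nat_lit 7])))
 (TT.n (TT.l (Ty.rel1 (nat_lit 0)))
 (TT.l (Ty.skip))))
 (TT.n (TT.n (TT.l (Ty.rel3 (nat_lit 4) (nat_lit 0) (nat_lit 4)))
 (TT.l (Ty.srel [nat_lit 6, nat_lit 0, nat_lit 6])))
 (TT.l (Ty.srel [nat_lit 0]))))
 (TT.n (TT.n (TT.n (TT.l (Ty.rel3 (nat_lit 6) (nat_lit 0) (nat_lit 6)))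
 (TT.l (Ty.srel [nat_lit 3, nat_lit 0, nat_lit 3])))
 (TT.l (Ty.dfn)))
 (TT.n (TT.n (TT.l (Ty.rel3 (nat_lit 2) (nat_lit 0) (nat_lit 2)))
 (TT.l (Ty.srel [nat_lit 1, nat_lit 2, nat_lit 3, nat_lit 4, nat_lit 5, nat_lit 8, nat_lit 0, nat_lit 1, nat_lit 2, nat_lit 3, nat_lit 4, nat_lit 5, nat_lit 8, nat_lit 0, nat_lit 1, nat_lit 2, nat_lit 3, nat_lit 4, nat_lit 5, nat_lit 8, nat_lit 0, nat_lit 1, nat_lit 2, nat_lit 3, nat_lit 4, nat_lit 5, nat_lit 8, nat_lit 0, nat_lit 1, nat_lit 2, nat_lit 3, nat_lit 4, nat_lit 5, nat_lit 8, nat_lit 0, nat_lit 1, nat_lit 2, nat_lit 3, nat_lit 4, nat_lit 5, nat_lit 8, nat_lit 0, nat_lit 1, nat_lit 2, nat_lit 3, nat_lit 4, nat_lit 5, nat_lit 8, nat_lit 0, nat_lit 1, nat_lit 2, nat_lit 3, nat_lit 4, nat_lit 5, nat_lit 8, nat_lit 0, nat_lit 1, nat_lit 2, nat_lit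 3, nat_lit 4, nat_lit 5, nat_lit 8])))
 (TT.l (Ty.srel [nat_lit 1, nat_lit 0, nat_lit 1, nat_lit 0, nat_lit 1])))))
 (TT.n (TT.n (TT.n (TT.n (TT.l (Ty.rel3 (nat_lit 7) (nat_lit 0) (nat_lit 7)))
 (TT.l (Ty.srel [nat_lit 5, nat_lit 0, nat_lit 5])))
 (TT.l (Ty.rel3 (nat_lit 9) (nat_lit 0) (nat_lit 9))))
 (TT.n (TT.n (TT.l (Ty.rel3 (nat_lit 3) (nat_lit 0) (nat_lit 3)))
 (TT.l (Ty.srel [nat_lit 2, nat_lit 0, nat_lit 2])))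
 (TT.l (Ty.srel [nat_lit 9, nat_lit 0, nat_lit 9]))))
 (TT.n (TT.n (TT.n (TT.l (Ty.rel3 (nat_lit 5) (nat_lit 0) (nat_lit 5)))
 (TT.l (Ty.srel [nat_lit 4, nat_lit 0, nat_lit 4])))
 (TT.l (Ty.rel5 (nat_lit 1) (nat_lit 0) (nat_lit 1) (nat_lit 0) (nat_lit 1))))
 (TT.n (TT.n (TT.l (Ty.rel3 (nat_lit 8) (nat_lit 0) (nat_lit 8)))
 (TT.l (Ty.srel [nat_lit 8, nat_lit 5, nat_lit 4, nat_lit 3, nat_lit 2, nat_lit 1, nat_lit 0, nat_lit 8, nat_lit 5, nat_lit 4, nat_lit 3, nat_lit 2, nat_lit 1, nat_lit 0, nat_lit 8, nat_lit 5, nat_lit 4, nat_lit 3, nat_lit 2, nat_lit 1, nat_lit 0, nat_lit 8, nat_lit 5, nat_lit 4, nat_lit 3, nat_lit 2, nat_lit 1, nat_lit 0, nat_lit 8, nat_lit 5, nat_lit 4, nat_lit 3, nat_lit 2, nat_lit 1, nat_lit 0, nat_lit 8, nat_lit 5, nat_lit 4, nat_lit 3, nat_lit 2, nat_lit 1, nat_lit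 0, nat_lit 8, nat_lit 5, nat_lit 4, nat_lit 3, nat_lit 2, nat_lit 1, nat_lit 0, nat_lit 8, nat_lit 5, nat_lit 4, nat_lit 3, nat_lit 2, nat_lit 1, nat_lit 0, nat_lit 8, nat_lit 5, nat_lit 4, nat_lit 3, nat_lit 2, nat_lit 1])))
 (TT.l (Ty.srel [nat_lit 8, nat_lit 0, nat_lit 8]))))))
noncomputable def ty1 : TT := (TT.n (TT.n (TT.n (TT.n (TT.n (TT.l (Ty.ssub [] []))
 (TT.l (Ty.srel [nat_lit 3, nat_lit 1, nat_lit 3])))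
 (TT.n (TT.l (Ty.dfn))
 (TT.l (Ty.relL (nat_lit 0) [nat_lit 8, nat_lit 5, nat_lit 4, nat_lit 3, nat_lit 2, nat_lit 1, nat_lit 0, nat_lit 8, nat_lit 5, nat_lit 4, nat_lit 3, nat_lit 2, nat_lit 1, nat_lit 0, nat_lit 8, nat_lit 5, nat_lit 4, nat_lit 3, nat_lit 2, nat_lit 1, nat_lit 0, nat_lit 8, nat_lit 5, nat_lit 4, nat_lit 3, nat_lit 2, nat_lit 1, nat_lit 0, nat_lit 8, nat_lit 5, nat_lit 4, nat_lit 3, nat_lit 2, nat_lit 1, nat_lit 0, nat_lit 8, nat_lit 5, nat_lit 4, nat_lit 3, nat_lit 2, nat_lit 1, nat_lit 0, nat_lit 8, nat_lit 5, nat_lit 4, nat_lit 3, nat_lit 2, nat_lit 1, nat_lit 0, nat_lit 8, nat_lit 5, nat_lit 4, nat_lit 3, nat_lit 2, nat_lit 1, nat_lit 0, nat_lit 8, nat_lit 5, nat_lit 4, nat_lit 3, nat_lit 2]))))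
 (TT.n (TT.n (TT.l (Ty.rel3 (nat_lit 4) (nat_lit 1) (nat_lit 4)))
 (TT.l (Ty.srel [nat_lit 7, nat_lit 1, nat_lit 7])))
 (TT.l (Ty.srel [nat_lit 1]))))
 (TT.n (TT.n (TT.n (TT.l (Ty.rel3 (nat_lit 6) (nat_lit 1) (nat_lit 6)))
 (TT.l (Ty.srel [nat_lit 8, nat_lit 1, nat_lit 8])))
 (TT.l (Ty.rel5 (nat_lit 0) (nat_lit 1) (nat_lit 0) (nat_lit 1) (nat_lit 0))))
 (TT.n (TT.n (TT.l (Ty.rel1 (nat_lit 1)))
 (TT.l (Ty.srel [nat_lit 0, nat_lit 8, nat_lit 5, nat_lit 4, nat_lit 3, nat_lit 2, nat_lit 1, nat_lit 0, nat_lit 8, nat_lit 5, nat_lit 4, nat_lit 3, nat_lit 2, nat_lit 1, nat_lit 0, nat_lit 8, nat_lit 5, nat_lit 4, nat_lit 3, nat_lit 2, nat_lit 1, nat_lit 0, nat_lit 8, nat_lit 5, nat_lit 4, nat_lit 3, nat_lit 2, nat_lit 1, nat_lit 0, nat_lit 8, nat_lit 5, nat_lit 4, nat_lit 3, nat_lit 2, nat_lit 1, nat_lit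 0, nat_lit 8, nat_lit 5, nat_lit 4, nat_lit 3, nat_lit 2, nat_lit 1, nat_lit 0, nat_lit 8, nat_lit 5, nat_lit 4, nat_lit 3, nat_lit 2, nat_lit 1, nat_lit 0, nat_lit 8, nat_lit 5, nat_lit 4, nat_lit 3, nat_lit 2, nat_lit 1, nat_lit 0, nat_lit 8, nat_lit 5, nat_lit 4, nat_lit 3, nat_lit 2])))
 (TT.l (Ty.srel [nat_lit 4, nat_lit 1, nat_lit 4])))))
 (TT.n (TT.n (TT.n (TT.n (TT.l (Ty.rel3 (nat_lit 7) (nat_lit 1) (nat_lit 7)))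
 (TT.l (Ty.srel [nat_lit 5, nat_lit 1, nat_lit 5])))
 (TT.n (TT.l (Ty.rel3 (nat_lit 9) (nat_lit 1) (nat_lit 9)))
 (TT.l (Ty.skip))))
 (TT.n (TT.n (TT.l (Ty.rel3 (nat_lit 3) (nat_lit 1) (nat_lit 3)))
 (TT.l (Ty.srel [nat_lit 9, nat_lit 1, nat_lit 9])))
 (TT.l (Ty.srel [nat_lit 0, nat_lit 1, nat_lit 0, nat_lit 1, nat_lit 0]))))
 (TT.n (TT.n (TT.n (TT.l (Ty.rel3 (nat_lit 5) (nat_lit 1) (nat_lit 5)))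
 (TT.l (Ty.srel [nat_lit 6, nat_lit 1, nat_lit 6])))
 (TT.l (Ty.rel5 (nat_lit 2) (nat_lit 1) (nat_lit 2) (nat_lit 1) (nat_lit 2))))
 (TT.n (TT.n (TT.l (Ty.rel3 (nat_lit 8) (nat_lit 1) (nat_lit 8)))
 (TT.l (Ty.srel [nat_lit 3, nat_lit 4, nat_lit 5, nat_lit 3, nat_lit 8, nat_lit 9, nat_lit 3, nat_lit 2, nat_lit 1, nat_lit 3, nat_lit 4, nat_lit 5, nat_lit 3, nat_lit 8, nat_lit 9, nat_lit 3, nat_lit 2, nat_lit 1, nat_lit 3, nat_lit 4, nat_lit 5, nat_lit 3, nat_lit 8, nat_lit 9, nat_lit 3, nat_lit 2, nat_lit 1, nat_lit 3, nat_lit 4, nat_lit 5, nat_lit 3, nat_lit 8, nat_lit 9, nat_lit 3, nat_lit 2, nat_lit 1, nat_lit 3, nat_lit 4, nat_lit 5, nat_lit 3, nat_lit 8, nat_lit 9, nat_lit 3, nat_lit 2, nat_lit 1, nat_lit 3, nat_lit 4, nat_lit 5, nat_lit 3, nat_lit 8, nat_lit 9, nat_lit 3, nat_lit 2, nat_lit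 1, nat_lit 3, nat_lit 4, nat_lit 5, nat_lit 3, nat_lit 8, nat_lit 9, nat_lit 3, nat_lit 2, nat_lit 1, nat_lit 3, nat_lit 4, nat_lit 5, nat_lit 3, nat_lit 8, nat_lit 9, nat_lit 3, nat_lit 2, nat_lit 1, nat_lit 3, nat_lit 4, nat_lit 5, nat_lit 3, nat_lit 8, nat_lit 9, nat_lit 3, nat_lit 2, nat_lit 1, nat_lit 3, nat_lit 4, nat_lit 5, nat_lit 3, nat_lit 8, nat_lit 9, nat_lit 3, nat_lit 2])))
 (TT.l (Ty.srel [nat_lit 2, nat_lit 1, nat_lit 2, nat_lit 1, nat_lit 2]))))))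
noncomputable def ty2 : TT := (TT.n (TT.n (TT.n (TT.n (TT.n (TT.l (Ty.ssub [] []))
 (TT.l (Ty.srel [nat_lit 4, nat_lit 2, nat_lit 4])))
 (TT.n (TT.l (Ty.rel3 (nat_lit 8) (nat_lit 2) (nat_lit 8)))
 (TT.l (Ty.srel [nat_lit 1, nat_lit 3, nat_lit 4, nat_lit 5, nat_lit 3, nat_lit 8, nat_lit 9, nat_lit 3, nat_lit 2, nat_lit 1, nat_lit 3, nat_lit 4, nat_lit 5, nat_lit 3, nat_lit 8, nat_lit 9, nat_lit 3, nat_lit 2, nat_lit 1, nat_lit 3, nat_lit 4, nat_lit 5, nat_lit 3, nat_lit 8, nat_lit 9, nat_lit 3, nat_lit 2, nat_lit 1, nat_lit 3, nat_lit 4, nat_lit 5, nat_lit 3, nat_lit 8, nat_lit 9, nat_lit 3, nat_lit 2, nat_lit 1, nat_lit 3, nat_lit 4, nat_lit 5, nat_lit 3, nat_lit 8, nat_lit 9, nat_lit 3, nat_lit 2, nat_lit 1, nat_lit 3, nat_lit 4, nat_lit 5, nat_lit 3, nat_lit 8, nat_lit 9, nat_lit 3, nat_lit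 2, nat_lit 1, nat_lit 3, nat_lit 4, nat_lit 5, nat_lit 3, nat_lit 8, nat_lit 9, nat_lit 3, nat_lit 2, nat_lit 1, nat_lit 3, nat_lit 4, nat_lit 5, nat_lit 3, nat_lit 8, nat_lit 9, nat_lit 3, nat_lit 2, nat_lit 1, nat_lit 3, nat_lit 4, nat_lit 5, nat_lit 3, nat_lit 8, nat_lit 9, nat_lit 3, nat_lit 2, nat_lit 1, nat_lit 3, nat_lit 4, nat_lit 5, nat_lit 3, nat_lit 8, nat_lit 9, nat_lit 3]))))
 (TT.n (TT.n (TT.l (Ty.rel3 (nat_lit 4) (nat_lit 2) (nat_lit 4)))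
 (TT.l (Ty.srel [nat_lit 3, nat_lit 4, nat_lit 5, nat_lit 8, nat_lit 0, nat_lit 1, nat_lit 2, nat_lit 3, nat_lit 4, nat_lit 5, nat_lit 8, nat_lit 0, nat_lit 1, nat_lit 2, nat_lit 3, nat_lit 4, nat_lit 5, nat_lit 8, nat_lit 0, nat_lit 1, nat_lit 2, nat_lit 3, nat_lit 4, nat_lit 5, nat_lit 8, nat_lit 0, nat_lit 1, nat_lit 2, nat_lit 3, nat_lit 4, nat_lit 5, nat_lit 8, nat_lit 0, nat_lit 1, nat_lit 2, nat_lit 3, nat_lit 4, nat_lit 5, nat_lit 8, nat_lit 0, nat_lit 1, nat_lit 2, nat_lit 3, nat_lit 4, nat_lit 5, nat_lit 8, nat_lit 0, nat_lit 1, nat_lit 2, nat_lit 3, nat_lit 4, nat_lit 5, nat_lit 8, nat_lit 0, nat_lit 1, nat_lit 2, nat_lit 3, nat_lit 4, nat_lit 5, nat_lit 8, nat_lit 0, nat_lit 1])))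
 (TT.l (Ty.srel [nat_lit 2]))))
 (TT.n (TT.n (TT.n (TT.l (Ty.rel3 (nat_lit 6) (nat_lit 2) (nat_lit 6)))
 (TT.l (Ty.srel [nat_lit 7, nat_lit 2, nat_lit 7])))
 (TT.n (TT.l (Ty.rel5 (nat_lit 3) (nat_lit 2) (nat_lit 3) (nat_lit 2) (nat_lit 3)))
 (TT.l (Ty.skip))))
 (TT.n (TT.n (TT.l (Ty.dfn))
 (TT.l (Ty.srel [nat_lit 1, nat_lit 0, nat_lit 8, nat_lit 5, nat_lit 4, nat_lit 3, nat_lit 2, nat_lit 1, nat_lit 0, nat_lit 8, nat_lit 5, nat_lit 4, nat_lit 3, nat_lit 2, nat_lit 1, nat_lit 0, nat_lit 8, nat_lit 5, nat_lit 4, nat_lit 3, nat_lit 2, nat_lit 1, nat_lit 0, nat_lit 8, nat_lit 5, nat_lit 4, nat_lit 3, nat_lit 2, nat_lit 1, nat_lit 0, nat_lit 8, nat_lit 5, nat_lit 4, nat_lit 3, nat_lit 2, nat_lit 1, nat_lit 0, nat_lit 8, nat_lit 5, nat_lit 4, nat_lit 3, nat_lit 2, nat_lit 1, nat_lit 0, nat_lit 8,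 nat_lit 5, nat_lit 4, nat_lit 3, nat_lit 2, nat_lit 1, nat_lit 0, nat_lit 8, nat_lit 5, nat_lit 4, nat_lit 3, nat_lit 2, nat_lit 1, nat_lit 0, nat_lit 8, nat_lit 5, nat_lit 4, nat_lit 3])))
 (TT.l (Ty.srel [nat_lit 1, nat_lit 2, nat_lit 1, nat_lit 2, nat_lit 1])))))
 (TT.n (TT.n (TT.n (TT.n (TT.l (Ty.rel3 (nat_lit 7) (nat_lit 2) (nat_lit 7)))
 (TT.l (Ty.srel [nat_lit 6, nat_lit 2, nat_lit 6])))
 (TT.n (TT.l (Ty.rel3 (nat_lit 0) (nat_lit 2) (nat_lit 0)))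
 (TT.l (Ty.relL (nat_lit 1) [nat_lit 0, nat_lit 8, nat_lit 5, nat_lit 4, nat_lit 3, nat_lit 2, nat_lit 1, nat_lit 0, nat_lit 8, nat_lit 5, nat_lit 4, nat_lit 3, nat_lit 2, nat_lit 1, nat_lit 0, nat_lit 8, nat_lit 5, nat_lit 4, nat_lit 3, nat_lit 2, nat_lit 1, nat_lit 0, nat_lit 8, nat_lit 5, nat_lit 4, nat_lit 3, nat_lit 2, nat_lit 1, nat_lit 0, nat_lit 8, nat_lit 5, nat_lit 4, nat_lit 3, nat_lit 2, nat_lit 1, nat_lit 0, nat_lit 8, nat_lit 5, nat_lit 4, nat_lit 3, nat_lit 2, nat_lit 1, nat_lit 0, nat_lit 8, nat_lit 5, nat_lit 4, nat_lit 3, nat_lit 2, nat_lit 1, nat_lit 0, nat_lit 8, nat_lit 5, nat_lit 4, nat_lit 3, nat_lit 2, nat_lit 1, nat_lit 0, nat_lit 8, nat_lit 5, nat_lit 4, nat_lit 3]))))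
 (TT.n (TT.n (TT.l (Ty.rel1 (nat_lit 2)))
 (TT.l (Ty.srel [nat_lit 3, nat_lit 2, nat_lit 3, nat_lit 2, nat_lit 3])))
 (TT.l (Ty.srel [nat_lit 9, nat_lit 2, nat_lit 9]))))
 (TT.n (TT.n (TT.n (TT.l (Ty.rel3 (nat_lit 5) (nat_lit 2) (nat_lit 5)))
 (TT.l (Ty.srel [nat_lit 8, nat_lit 2, nat_lit 8])))
 (TT.l (Ty.rel3 (nat_lit 9) (nat_lit 2) (nat_lit 9))))
 (TT.n (TT.n (TT.l (Ty.rel5 (nat_lit 1) (nat_lit 2) (nat_lit 1) (nat_lit 2) (nat_lit 1)))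
 (TT.l (Ty.srel [nat_lit 0, nat_lit 2, nat_lit 0])))
 (TT.l (Ty.srel [nat_lit 5, nat_lit 2, nat_lit 5]))))))
noncomputable def ty3 : TT := (TT.n (TT.n (TT.n (TT.n (TT.n (TT.l (Ty.ssub [] []))
 (TT.l (Ty.srel [nat_lit 6, nat_lit 3, nat_lit 6])))
 (TT.n (TT.l (Ty.rel3 (nat_lit 1) (nat_lit 3) (nat_lit 1)))
 (TT.l (Ty.srel [nat_lit 4, nat_lit 5, nat_lit 8, nat_lit 0, nat_lit 1, nat_lit 2, nat_lit 3, nat_lit 4, nat_lit 5, nat_lit 8, nat_lit 0, nat_lit 1, nat_lit 2, nat_lit 3, nat_lit 4, nat_lit 5, nat_lit 8, nat_lit 0, nat_lit 1, nat_lit 2, nat_lit 3, nat_lit 4, nat_lit 5, nat_lit 8, nat_lit 0, nat_lit 1, nat_lit 2, nat_lit 3, nat_lit 4, nat_lit 5, nat_lit 8, nat_lit 0, nat_lit 1, nat_lit 2, nat_lit 3, nat_lit 4, nat_lit 5, nat_lit 8, nat_lit 0, nat_lit 1, nat_lit 2, nat_lit 3, nat_lit 4, nat_lit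 5, nat_lit 8, nat_lit 0, nat_lit 1, nat_lit 2, nat_lit 3, nat_lit 4, nat_lit 5, nat_lit 8, nat_lit 0, nat_lit 1, nat_lit 2, nat_lit 3, nat_lit 4, nat_lit 5, nat_lit 8, nat_lit 0, nat_lit 1, nat_lit 2]))))
 (TT.n (TT.n (TT.l (Ty.rel1 (nat_lit 3)))
 (TT.l (Ty.srel [nat_lit 2, nat_lit 1, nat_lit 3, nat_lit 4, nat_lit 5, nat_lit 3, nat_lit 8, nat_lit 9, nat_lit 3, nat_lit 2, nat_lit 1, nat_lit 3, nat_lit 4, nat_lit 5, nat_lit 3, nat_lit 8, nat_lit 9, nat_lit 3, nat_lit 2, nat_lit 1, nat_lit 3, nat_lit 4, nat_lit 5, nat_lit 3, nat_lit 8, nat_lit 9, nat_lit 3, nat_lit 2, nat_lit 1, nat_lit 3, nat_lit 4, nat_lit 5, nat_lit 3, nat_lit 8, nat_lit 9, nat_lit 3, nat_lit 2, nat_lit 1, nat_lit 3, nat_lit 4, nat_lit 5, nat_lit 3, nat_lit 8, nat_lit 9, nat_lit 3, nat_lit 2, nat_lit 1, nat_lit 3, nat_lit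 4, nat_lit 5, nat_lit 3, nat_lit 8, nat_lit 9, nat_lit 3, nat_lit 2, nat_lit 1, nat_lit 3, nat_lit 4, nat_lit 5, nat_lit 3, nat_lit 8, nat_lit 9, nat_lit 3, nat_lit 2, nat_lit 1, nat_lit 3, nat_lit 4, nat_lit 5, nat_lit 3, nat_lit 8, nat_lit 9, nat_lit 3, nat_lit 2, nat_lit 1, nat_lit 3, nat_lit 4, nat_lit 5, nat_lit 3, nat_lit 8, nat_lit 9, nat_lit 3, nat_lit 2, nat_lit 1, nat_lit 3, nat_lit 4, nat_lit 5, nat_lit 3, nat_lit 8, nat_lit 9])))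
 (TT.n (TT.l (Ty.srel [nat_lit 3]))
 (TT.l (Ty.relL (nat_lit 5) [nat_lit 4, nat_lit 3, nat_lit 1, nat_lit 2, nat_lit 3, nat_lit 9, nat_lit 8, nat_lit 3, nat_lit 5, nat_lit 4, nat_lit 3, nat_lit 1, nat_lit 2, nat_lit 3, nat_lit 9, nat_lit 8, nat_lit 3, nat_lit 5, nat_lit 4, nat_lit 3, nat_lit 1, nat_lit 2, nat_lit 3, nat_lit 9, nat_lit 8, nat_lit 3, nat_lit 5, nat_lit 4, nat_lit 3, nat_lit 1, nat_lit 2, nat_lit 3, nat_lit 9, nat_lit 8, nat_lit 3, nat_lit 5, nat_lit 4, nat_lit 3, nat_lit 1, nat_lit 2, nat_lit 3, nat_lit 9, nat_lit 8, nat_lit 3, nat_lit 5, nat_lit 4, nat_lit 3, nat_lit 1, nat_lit 2, nat_lit 3, nat_lit 9, nat_lit 8, nat_lit 3, nat_lit 5, nat_lit 4, nat_lit 3, nat_lit 1, nat_lit 2, nat_lit 3, nat_lit 9, nat_lit 8, nat_lit 3, nat_lit 5, nat_lit 4, nat_lit 3, nat_lit 1, nat_lit 2,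 nat_lit 3, nat_lit 9, nat_lit 8, nat_lit 3, nat_lit 5, nat_lit 4, nat_lit 3, nat_lit 1, nat_lit 2, nat_lit 3, nat_lit 9, nat_lit 8, nat_lit 3, nat_lit 5, nat_lit 4, nat_lit 3, nat_lit 1, nat_lit 2, nat_lit 3, nat_lit 9, nat_lit 8])))))
 (TT.n (TT.n (TT.n (TT.l (Ty.rel3 (nat_lit 6) (nat_lit 3) (nat_lit 6)))
 (TT.l (Ty.srel [nat_lit 7, nat_lit 3, nat_lit 7])))
 (TT.n (TT.l (Ty.rel3 (nat_lit 0) (nat_lit 3) (nat_lit 0)))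
 (TT.l (Ty.srel [nat_lit 5, nat_lit 4, nat_lit 3, nat_lit 1, nat_lit 2, nat_lit 3, nat_lit 9, nat_lit 8, nat_lit 3, nat_lit 5, nat_lit 4, nat_lit 3, nat_lit 1, nat_lit 2, nat_lit 3, nat_lit 9, nat_lit 8, nat_lit 3, nat_lit 5, nat_lit 4, nat_lit 3, nat_lit 1, nat_lit 2, nat_lit 3, nat_lit 9, nat_lit 8, nat_lit 3, nat_lit 5, nat_lit 4, nat_lit 3, nat_lit 1, nat_lit 2, nat_lit 3, nat_lit 9, nat_lit 8, nat_lit 3, nat_lit 5, nat_lit 4, nat_lit 3, nat_lit 1, nat_lit 2, nat_lit 3, nat_lit 9, nat_lit 8, nat_lit 3, nat_lit 5, nat_lit 4, nat_lit 3, nat_lit 1, nat_lit 2, nat_lit 3, nat_lit 9, nat_lit 8, nat_lit 3, nat_lit 5, nat_lit 4, nat_lit 3, nat_lit 1, nat_lit 2, nat_lit 3, nat_lit 9, nat_lit 8, nat_lit 3, nat_lit 5, nat_lit 4, nat_lit 3, nat_lit 1, nat_lit 2, nat_lit 3, nat_lit 9, nat_lit 8, nat_lit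 3, nat_lit 5, nat_lit 4, nat_lit 3, nat_lit 1, nat_lit 2, nat_lit 3, nat_lit 9, nat_lit 8, nat_lit 3, nat_lit 5, nat_lit 4, nat_lit 3, nat_lit 1, nat_lit 2, nat_lit 3, nat_lit 9, nat_lit 8]))))
 (TT.n (TT.n (TT.l (Ty.rel5 (nat_lit 2) (nat_lit 3) (nat_lit 2) (nat_lit 3) (nat_lit 2)))
 (TT.l (Ty.srel [nat_lit 0, nat_lit 3, nat_lit 0])))
 (TT.n (TT.l (Ty.srel [nat_lit 5, nat_lit 3, nat_lit 5]))
 (TT.l (Ty.srel [nat_lit 4, nat_lit 5, nat_lit 3, nat_lit 8, nat_lit 9, nat_lit 3, nat_lit 2, nat_lit 1, nat_lit 3, nat_lit 4, nat_lit 5, nat_lit 3, nat_lit 8, nat_lit 9, nat_lit 3, nat_lit 2, nat_lit 1, nat_lit 3, nat_lit 4, nat_lit 5, nat_lit 3, nat_lit 8, nat_lit 9, nat_lit 3, nat_lit 2, nat_lit 1, nat_lit 3, nat_lit 4, nat_lit 5, nat_lit 3, nat_lit 8, nat_lit 9, nat_lit 3, nat_lit 2, nat_lit 1, nat_lit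 3, nat_lit 4, nat_lit 5, nat_lit 3, nat_lit 8, nat_lit 9, nat_lit 3, nat_lit 2, nat_lit 1, nat_lit 3, nat_lit 4, nat_lit 5, nat_lit 3, nat_lit 8, nat_lit 9, nat_lit 3, nat_lit 2, nat_lit 1, nat_lit 3, nat_lit 4, nat_lit 5, nat_lit 3, nat_lit 8, nat_lit 9, nat_lit 3, nat_lit 2, nat_lit 1, nat_lit 3, nat_lit 4, nat_lit 5, nat_lit 3, nat_lit 8, nat_lit 9, nat_lit 3, nat_lit 2, nat_lit 1, nat_lit 3, nat_lit 4, nat_lit 5, nat_lit 3, nat_lit 8, nat_lit 9, nat_lit 3, nat_lit 2, nat_lit 1, nat_lit 3, nat_lit 4, nat_lit 5, nat_lit 3, nat_lit 8, nat_lit 9, nat_lit 3, nat_lit 2, nat_lit 1]))))))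
 (TT.n (TT.n (TT.n (TT.n (TT.l (Ty.rel3 (nat_lit 7) (nat_lit 3) (nat_lit 7)))
 (TT.l (Ty.srel [nat_lit 4, nat_lit 3, nat_lit 4, nat_lit 3, nat_lit 4])))
 (TT.n (TT.l (Ty.rel3 (nat_lit 9) (nat_lit 3) (nat_lit 9)))
 (TT.l (Ty.srel [nat_lit 2, nat_lit 1, nat_lit 0, nat_lit 8, nat_lit 5, nat_lit 4, nat_lit 3, nat_lit 2, nat_lit 1, nat_lit 0, nat_lit 8, nat_lit 5, nat_lit 4, nat_lit 3, nat_lit 2, nat_lit 1, nat_lit 0, nat_lit 8, nat_lit 5, nat_lit 4, nat_lit 3, nat_lit 2, nat_lit 1, nat_lit 0, nat_lit 8, nat_lit 5, nat_lit 4, nat_lit 3, nat_lit 2, nat_lit 1, nat_lit 0, nat_lit 8, nat_lit 5, nat_lit 4, nat_lit 3, nat_lit 2, nat_lit 1, nat_lit 0, nat_lit 8, nat_lit 5, nat_lit 4, nat_lit 3, nat_lit 2, nat_lit 1, nat_lit 0, nat_lit 8, nat_lit 5, nat_lit 4, nat_lit 3, nat_lit 2, nat_lit 1, nat_lit 0,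 nat_lit 8, nat_lit 5, nat_lit 4, nat_lit 3, nat_lit 2, nat_lit 1, nat_lit 0, nat_lit 8, nat_lit 5, nat_lit 4]))))
 (TT.n (TT.n (TT.l (Ty.dfn))
 (TT.l (Ty.srel [nat_lit 1, nat_lit 2, nat_lit 3, nat_lit 9, nat_lit 8, nat_lit 3, nat_lit 5, nat_lit 4, nat_lit 3, nat_lit 1, nat_lit 2, nat_lit 3, nat_lit 9, nat_lit 8, nat_lit 3, nat_lit 5, nat_lit 4, nat_lit 3, nat_lit 1, nat_lit 2, nat_lit 3, nat_lit 9, nat_lit 8, nat_lit 3, nat_lit 5, nat_lit 4, nat_lit 3, nat_lit 1, nat_lit 2, nat_lit 3, nat_lit 9, nat_lit 8, nat_lit 3, nat_lit 5, nat_lit 4, nat_lit 3, nat_lit 1, nat_lit 2, nat_lit 3, nat_lit 9, nat_lit 8, nat_lit 3, nat_lit 5, nat_lit 4, nat_lit 3, nat_lit 1, nat_lit 2, nat_lit 3, nat_lit 9, nat_lit 8, nat_lit 3, nat_lit 5, nat_lit 4, nat_lit 3, nat_lit 1, nat_lit 2, nat_lit 3, nat_lit 9, nat_lit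 8, nat_lit 3, nat_lit 5, nat_lit 4, nat_lit 3, nat_lit 1, nat_lit 2, nat_lit 3, nat_lit 9, nat_lit 8, nat_lit 3, nat_lit 5, nat_lit 4, nat_lit 3, nat_lit 1, nat_lit 2, nat_lit 3, nat_lit 9, nat_lit 8, nat_lit 3, nat_lit 5, nat_lit 4, nat_lit 3, nat_lit 1, nat_lit 2, nat_lit 3, nat_lit 9, nat_lit 8, nat_lit 3, nat_lit 5, nat_lit 4])))
 (TT.n (TT.l (Ty.srel [nat_lit 1, nat_lit 3, nat_lit 1]))
 (TT.l (Ty.skip)))))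
 (TT.n (TT.n (TT.n (TT.l (Ty.rel3 (nat_lit 5) (nat_lit 3) (nat_lit 5)))
 (TT.l (Ty.srel [nat_lit 9, nat_lit 3, nat_lit 9])))
 (TT.n (TT.l (Ty.rel5 (nat_lit 4) (nat_lit 3) (nat_lit 4) (nat_lit 3) (nat_lit 4)))
 (TT.l (Ty.relL (nat_lit 2) [nat_lit 1, nat_lit 0, nat_lit 8, nat_lit 5, nat_lit 4, nat_lit 3, nat_lit 2, nat_lit 1, nat_lit 0, nat_lit 8, nat_lit 5, nat_lit 4, nat_lit 3, nat_lit 2, nat_lit 1, nat_lit 0, nat_lit 8, nat_lit 5, nat_lit 4, nat_lit 3, nat_lit 2, nat_lit 1, nat_lit 0, nat_lit 8, nat_lit 5, nat_lit 4, nat_lit 3, nat_lit 2, nat_lit 1, nat_lit 0, nat_lit 8, nat_lit 5, nat_lit 4, nat_lit 3, nat_lit 2, nat_lit 1, nat_lit 0, nat_lit 8, nat_lit 5, nat_lit 4, nat_lit 3, nat_lit 2, nat_lit 1, nat_lit 0, nat_lit 8, nat_lit 5, nat_lit 4, nat_lit 3, nat_lit 2, nat_lit 1, nat_lit 0, nat_lit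 8, nat_lit 5, nat_lit 4, nat_lit 3, nat_lit 2, nat_lit 1, nat_lit 0, nat_lit 8, nat_lit 5, nat_lit 4]))))
 (TT.n (TT.n (TT.l (Ty.rel5 (nat_lit 8) (nat_lit 3) (nat_lit 8) (nat_lit 3) (nat_lit 8)))
 (TT.l (Ty.srel [nat_lit 8, nat_lit 3, nat_lit 8, nat_lit 3, nat_lit 8])))
 (TT.l (Ty.srel [nat_lit 2, nat_lit 3, nat_lit 2, nat_lit 3, nat_lit 2]))))))
noncomputable def ty4 : TT := (TT.n (TT.n (TT.n (TT.n (TT.n (TT.l (Ty.ssub [] []))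
 (TT.l (Ty.srel [nat_lit 3, nat_lit 4, nat_lit 3, nat_lit 4, nat_lit 3])))
 (TT.n (TT.l (Ty.rel3 (nat_lit 1) (nat_lit 4) (nat_lit 1)))
 (TT.l (Ty.srel [nat_lit 5, nat_lit 8, nat_lit 0, nat_lit 1, nat_lit 2, nat_lit 3, nat_lit 4, nat_lit 5, nat_lit 8, nat_lit 0, nat_lit 1, nat_lit 2, nat_lit 3, nat_lit 4, nat_lit 5, nat_lit 8, nat_lit 0, nat_lit 1, nat_lit 2, nat_lit 3, nat_lit 4, nat_lit 5, nat_lit 8, nat_lit 0, nat_lit 1, nat_lit 2, nat_lit 3, nat_lit 4, nat_lit 5, nat_lit 8, nat_lit 0, nat_lit 1, nat_lit 2, nat_lit 3, nat_lit 4, nat_lit 5, nat_lit 8, nat_lit 0, nat_lit 1, nat_lit 2, nat_lit 3, nat_lit 4, nat_lit 5, nat_lit 8, nat_lit 0, nat_lit 1, nat_lit 2, nat_lit 3, nat_lit 4, nat_lit 5, nat_lit 8, nat_lit 0, nat_lit 1, nat_lit 2, nat_lit 3, nat_lit 4, nat_lit 5, nat_lit 8, nat_lit 0,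 nat_lit 1, nat_lit 2, nat_lit 3]))))
 (TT.n (TT.n (TT.l (Ty.dfn))
 (TT.l (Ty.srel [nat_lit 0, nat_lit 4, nat_lit 0])))
 (TT.l (Ty.srel [nat_lit 4]))))
 (TT.n (TT.n (TT.n (TT.l (Ty.rel3 (nat_lit 6) (nat_lit 4) (nat_lit 6)))
 (TT.l (Ty.srel [nat_lit 6, nat_lit 4, nat_lit 6])))
 (TT.n (TT.l (Ty.rel3 (nat_lit 0) (nat_lit 4) (nat_lit 0)))
 (TT.l (Ty.skip))))
 (TT.n (TT.n (TT.l (Ty.rel3 (nat_lit 2) (nat_lit 4) (nat_lit 2)))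
 (TT.l (Ty.srel [nat_lit 5, nat_lit 4, nat_lit 5, nat_lit 4, nat_lit 5])))
 (TT.l (Ty.srel [nat_lit 2, nat_lit 4, nat_lit 2])))))
 (TT.n (TT.n (TT.n (TT.n (TT.l (Ty.rel3 (nat_lit 7) (nat_lit 4) (nat_lit 7)))
 (TT.l (Ty.srel [nat_lit 1, nat_lit 4, nat_lit 1])))
 (TT.n (TT.l (Ty.rel3 (nat_lit 9) (nat_lit 4) (nat_lit 9)))
 (TT.l (Ty.srel [nat_lit 3, nat_lit 1, nat_lit 2, nat_lit 3, nat_lit 9, nat_lit 8, nat_lit 3, nat_lit 5, nat_lit 4, nat_lit 3, nat_lit 1, nat_lit 2, nat_lit 3, nat_lit 9, nat_lit 8, nat_lit 3, nat_lit 5, nat_lit 4, nat_lit 3, nat_lit 1, nat_lit 2, nat_lit 3, nat_lit 9, nat_lit 8, nat_lit 3, nat_lit 5, nat_lit 4, nat_lit 3, nat_lit 1, nat_lit 2, nat_lit 3, nat_lit 9, nat_lit 8, nat_lit 3, nat_lit 5, nat_lit 4, nat_lit 3, nat_lit 1, nat_lit 2, nat_lit 3, nat_lit 9, nat_lit 8,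 nat_lit 3, nat_lit 5, nat_lit 4, nat_lit 3, nat_lit 1, nat_lit 2, nat_lit 3, nat_lit 9, nat_lit 8, nat_lit 3, nat_lit 5, nat_lit 4, nat_lit 3, nat_lit 1, nat_lit 2, nat_lit 3, nat_lit 9, nat_lit 8, nat_lit 3, nat_lit 5, nat_lit 4, nat_lit 3, nat_lit 1, nat_lit 2, nat_lit 3, nat_lit 9, nat_lit 8, nat_lit 3, nat_lit 5, nat_lit 4, nat_lit 3, nat_lit 1, nat_lit 2, nat_lit 3, nat_lit 9, nat_lit 8, nat_lit 3, nat_lit 5, nat_lit 4, nat_lit 3, nat_lit 1, nat_lit 2, nat_lit 3, nat_lit 9, nat_lit 8, nat_lit 3, nat_lit 5]))))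
 (TT.n (TT.n (TT.l (Ty.rel5 (nat_lit 3) (nat_lit 4) (nat_lit 3) (nat_lit 4) (nat_lit 3)))
 (TT.l (Ty.relL (nat_lit 5) [nat_lit 8, nat_lit 0, nat_lit 1, nat_lit 2, nat_lit 3, nat_lit 4, nat_lit 5, nat_lit 8, nat_lit 0, nat_lit 1, nat_lit 2, nat_lit 3, nat_lit 4, nat_lit 5, nat_lit 8, nat_lit 0, nat_lit 1, nat_lit 2, nat_lit 3, nat_lit 4, nat_lit 5, nat_lit 8, nat_lit 0, nat_lit 1, nat_lit 2, nat_lit 3, nat_lit 4, nat_lit 5, nat_lit 8, nat_lit 0, nat_lit 1, nat_lit 2, nat_lit 3, nat_lit 4, nat_lit 5, nat_lit 8, nat_lit 0, nat_lit 1, nat_lit 2, nat_lit 3, nat_lit 4, nat_lit 5, nat_lit 8, nat_lit 0, nat_lit 1, nat_lit 2, nat_lit 3, nat_lit 4, nat_lit 5, nat_lit 8, nat_lit 0, nat_lit 1, nat_lit 2, nat_lit 3, nat_lit 4, nat_lit 5, nat_lit 8, nat_lit 0, nat_lit 1, nat_lit 2, nat_lit 3])))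
 (TT.l (Ty.srel [nat_lit 8, nat_lit 4, nat_lit 8]))))
 (TT.n (TT.n (TT.n (TT.l (Ty.rel1 (nat_lit 4)))
 (TT.l (Ty.srel [nat_lit 7, nat_lit 4, nat_lit 7])))
 (TT.n (TT.l (Ty.rel5 (nat_lit 5) (nat_lit 4) (nat_lit 5) (nat_lit 4) (nat_lit 5)))
 (TT.l (Ty.relL (nat_lit 3) [nat_lit 1, nat_lit 2, nat_lit 3, nat_lit 9, nat_lit 8, nat_lit 3, nat_lit 5, nat_lit 4, nat_lit 3, nat_lit 1, nat_lit 2, nat_lit 3, nat_lit 9, nat_lit 8, nat_lit 3, nat_lit 5, nat_lit 4, nat_lit 3, nat_lit 1, nat_lit 2, nat_lit 3, nat_lit 9, nat_lit 8, nat_lit 3, nat_lit 5, nat_lit 4, nat_lit 3, nat_lit 1, nat_lit 2, nat_lit 3, nat_lit 9, nat_lit 8, nat_lit 3, nat_lit 5, nat_lit 4, nat_lit 3, nat_lit 1, nat_lit 2, nat_lit 3, nat_lit 9, nat_lit 8, nat_lit 3, nat_lit 5, nat_lit 4, nat_lit 3, nat_lit 1, nat_lit 2, nat_lit 3, nat_lit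 9, nat_lit 8, nat_lit 3, nat_lit 5, nat_lit 4, nat_lit 3, nat_lit 1, nat_lit 2, nat_lit 3, nat_lit 9, nat_lit 8, nat_lit 3, nat_lit 5, nat_lit 4, nat_lit 3, nat_lit 1, nat_lit 2, nat_lit 3, nat_lit 9, nat_lit 8, nat_lit 3, nat_lit 5, nat_lit 4, nat_lit 3, nat_lit 1, nat_lit 2, nat_lit 3, nat_lit 9, nat_lit 8, nat_lit 3, nat_lit 5, nat_lit 4, nat_lit 3, nat_lit 1, nat_lit 2, nat_lit 3, nat_lit 9, nat_lit 8, nat_lit 3, nat_lit 5]))))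
 (TT.n (TT.n (TT.l (Ty.rel3 (nat_lit 8) (nat_lit 4) (nat_lit 8)))
 (TT.l (Ty.srel [nat_lit 3, nat_lit 2, nat_lit 1, nat_lit 0, nat_lit 8, nat_lit 5, nat_lit 4, nat_lit 3, nat_lit 2, nat_lit 1, nat_lit 0, nat_lit 8, nat_lit 5, nat_lit 4, nat_lit 3, nat_lit 2, nat_lit 1, nat_lit 0, nat_lit 8, nat_lit 5, nat_lit 4, nat_lit 3, nat_lit 2, nat_lit 1, nat_lit 0, nat_lit 8, nat_lit 5, nat_lit 4, nat_lit 3, nat_lit 2, nat_lit 1, nat_lit 0, nat_lit 8, nat_lit 5, nat_lit 4, nat_lit 3, nat_lit 2, nat_lit 1, nat_lit 0, nat_lit 8, nat_lit 5, nat_lit 4, nat_lit 3, nat_lit 2, nat_lit 1, nat_lit 0, nat_lit 8, nat_lit 5, nat_lit 4, nat_lit 3, nat_lit 2, nat_lit 1, nat_lit 0, nat_lit 8, nat_lit 5, nat_lit 4, nat_lit 3, nat_lit 2, nat_lit 1, nat_lit 0, nat_lit 8, nat_lit 5])))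
 (TT.l (Ty.srel [nat_lit 9, nat_lit 4, nat_lit 9]))))))
noncomputable def ty5 : TT := (TT.n (TT.n (TT.n (TT.n (TT.n (TT.l (Ty.ssub [] []))
 (TT.l (Ty.srel [nat_lit 3, nat_lit 5, nat_lit 3])))
 (TT.n (TT.l (Ty.rel3 (nat_lit 1) (nat_lit 5) (nat_lit 1)))
 (TT.l (Ty.srel [nat_lit 3, nat_lit 8, nat_lit 9, nat_lit 3, nat_lit 2, nat_lit 1, nat_lit 3, nat_lit 4, nat_lit 5, nat_lit 3, nat_lit 8, nat_lit 9, nat_lit 3, nat_lit 2, nat_lit 1, nat_lit 3, nat_lit 4, nat_lit 5, nat_lit 3, nat_lit 8, nat_lit 9, nat_lit 3, nat_lit 2, nat_lit 1, nat_lit 3, nat_lit 4, nat_lit 5, nat_lit 3, nat_lit 8, nat_lit 9, nat_lit 3, nat_lit 2, nat_lit 1, nat_lit 3, nat_lit 4, nat_lit 5, nat_lit 3, nat_lit 8, nat_lit 9, nat_lit 3, nat_lit 2, nat_lit 1, nat_lit 3, nat_lit 4, nat_lit 5, nat_lit 3, nat_lit 8, nat_lit 9, nat_lit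 3, nat_lit 2, nat_lit 1, nat_lit 3, nat_lit 4, nat_lit 5, nat_lit 3, nat_lit 8, nat_lit 9, nat_lit 3, nat_lit 2, nat_lit 1, nat_lit 3, nat_lit 4, nat_lit 5, nat_lit 3, nat_lit 8, nat_lit 9, nat_lit 3, nat_lit 2, nat_lit 1, nat_lit 3, nat_lit 4, nat_lit 5, nat_lit 3, nat_lit 8, nat_lit 9, nat_lit 3, nat_lit 2, nat_lit 1, nat_lit 3, nat_lit 4, nat_lit 5, nat_lit 3, nat_lit 8, nat_lit 9, nat_lit 3, nat_lit 2, nat_lit 1, nat_lit 3, nat_lit 4]))))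
 (TT.n (TT.n (TT.l (Ty.rel5 (nat_lit 4) (nat_lit 5) (nat_lit 4) (nat_lit 5) (nat_lit 4)))
 (TT.l (Ty.srel [nat_lit 0, nat_lit 5, nat_lit 0])))
 (TT.l (Ty.srel [nat_lit 5]))))
 (TT.n (TT.n (TT.n (TT.l (Ty.rel1 (nat_lit 5)))
 (TT.l (Ty.srel [nat_lit 7, nat_lit 5, nat_lit 7])))
 (TT.n (TT.l (Ty.rel3 (nat_lit 0) (nat_lit 5) (nat_lit 0)))
 (TT.l (Ty.skip))))
 (TT.n (TT.n (TT.l (Ty.rel3 (nat_lit 2) (nat_lit 5) (nat_lit 2)))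
 (TT.l (Ty.relL (nat_lit 8) [nat_lit 0, nat_lit 1, nat_lit 2, nat_lit 3, nat_lit 4, nat_lit 5, nat_lit 8, nat_lit 0, nat_lit 1, nat_lit 2, nat_lit 3, nat_lit 4, nat_lit 5, nat_lit 8, nat_lit 0, nat_lit 1, nat_lit 2, nat_lit 3, nat_lit 4, nat_lit 5, nat_lit 8, nat_lit 0, nat_lit 1, nat_lit 2, nat_lit 3, nat_lit 4, nat_lit 5, nat_lit 8, nat_lit 0, nat_lit 1, nat_lit 2, nat_lit 3, nat_lit 4, nat_lit 5, nat_lit 8, nat_lit 0, nat_lit 1, nat_lit 2, nat_lit 3, nat_lit 4, nat_lit 5, nat_lit 8, nat_lit 0, nat_lit 1, nat_lit 2, nat_lit 3, nat_lit 4, nat_lit 5, nat_lit 8, nat_lit 0, nat_lit 1, nat_lit 2, nat_lit 3, nat_lit 4, nat_lit 5, nat_lit 8, nat_lit 0, nat_lit 1, nat_lit 2, nat_lit 3, nat_lit 4])))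
 (TT.l (Ty.srel [nat_lit 8, nat_lit 5, nat_lit 8])))))
 (TT.n (TT.n (TT.n (TT.n (TT.l (Ty.rel3 (nat_lit 7) (nat_lit 5) (nat_lit 7)))
 (TT.l (Ty.srel [nat_lit 2, nat_lit 5, nat_lit 2])))
 (TT.n (TT.l (Ty.rel3 (nat_lit 9) (nat_lit 5) (nat_lit 9)))
 (TT.l (Ty.srel [nat_lit 8, nat_lit 0, nat_lit 1, nat_lit 2, nat_lit 3, nat_lit 4, nat_lit 5, nat_lit 8, nat_lit 0, nat_lit 1, nat_lit 2, nat_lit 3, nat_lit 4, nat_lit 5, nat_lit 8, nat_lit 0, nat_lit 1, nat_lit 2, nat_lit 3, nat_lit 4, nat_lit 5, nat_lit 8, nat_lit 0, nat_lit 1, nat_lit 2, nat_lit 3, nat_lit 4, nat_lit 5, nat_lit 8, nat_lit 0, nat_lit 1, nat_lit 2, nat_lit 3, nat_lit 4, nat_lit 5, nat_lit 8, nat_lit 0, nat_lit 1, nat_lit 2, nat_lit 3, nat_lit 4, nat_lit 5, nat_lit 8, nat_lit 0, nat_lit 1, nat_lit 2, nat_lit 3, nat_lit 4, nat_lit 5,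 nat_lit 8, nat_lit 0, nat_lit 1, nat_lit 2, nat_lit 3, nat_lit 4, nat_lit 5, nat_lit 8, nat_lit 0, nat_lit 1, nat_lit 2, nat_lit 3, nat_lit 4]))))
 (TT.n (TT.n (TT.l (Ty.rel3 (nat_lit 3) (nat_lit 5) (nat_lit 3)))
 (TT.l (Ty.srel [nat_lit 6, nat_lit 5, nat_lit 6, nat_lit 5, nat_lit 6])))
 (TT.l (Ty.srel [nat_lit 4, nat_lit 5, nat_lit 4, nat_lit 5, nat_lit 4]))))
 (TT.n (TT.n (TT.n (TT.l (Ty.dfn))
 (TT.l (Ty.srel [nat_lit 1, nat_lit 5, nat_lit 1])))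
 (TT.l (Ty.rel5 (nat_lit 6) (nat_lit 5) (nat_lit 6) (nat_lit 5) (nat_lit 6))))
 (TT.n (TT.n (TT.l (Ty.rel3 (nat_lit 8) (nat_lit 5) (nat_lit 8)))
 (TT.l (Ty.relL (nat_lit 3) [nat_lit 8, nat_lit 9, nat_lit 3, nat_lit 2, nat_lit 1, nat_lit 3, nat_lit 4, nat_lit 5, nat_lit 3, nat_lit 8, nat_lit 9, nat_lit 3, nat_lit 2, nat_lit 1, nat_lit 3, nat_lit 4, nat_lit 5, nat_lit 3, nat_lit 8, nat_lit 9, nat_lit 3, nat_lit 2, nat_lit 1, nat_lit 3, nat_lit 4, nat_lit 5, nat_lit 3, nat_lit 8, nat_lit 9, nat_lit 3, nat_lit 2, nat_lit 1, nat_lit 3, nat_lit 4, nat_lit 5, nat_lit 3, nat_lit 8, nat_lit 9, nat_lit 3, nat_lit 2, nat_lit 1, nat_lit 3, nat_lit 4, nat_lit 5, nat_lit 3, nat_lit 8, nat_lit 9, nat_lit 3, nat_lit 2, nat_lit 1, nat_lit 3, nat_lit 4, nat_lit 5, nat_lit 3, nat_lit 8, nat_lit 9, nat_lit 3,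 nat_lit 2, nat_lit 1, nat_lit 3, nat_lit 4, nat_lit 5, nat_lit 3, nat_lit 8, nat_lit 9, nat_lit 3, nat_lit 2, nat_lit 1, nat_lit 3, nat_lit 4, nat_lit 5, nat_lit 3, nat_lit 8, nat_lit 9, nat_lit 3, nat_lit 2, nat_lit 1, nat_lit 3, nat_lit 4, nat_lit 5, nat_lit 3, nat_lit 8, nat_lit 9, nat_lit 3, nat_lit 2, nat_lit 1, nat_lit 3, nat_lit 4])))
 (TT.l (Ty.srel [nat_lit 9, nat_lit 5, nat_lit 9]))))))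
noncomputable def ty6 : TT := (TT.n (TT.n (TT.n (TT.n (TT.n (TT.l (Ty.ssub [] []))
 (TT.l (Ty.srel [nat_lit 8, nat_lit 6, nat_lit 8])))
 (TT.l (Ty.rel3 (nat_lit 1) (nat_lit 6) (nat_lit 1))))
 (TT.n (TT.n (TT.l (Ty.rel3 (nat_lit 4) (nat_lit 6) (nat_lit 4)))
 (TT.l (Ty.srel [nat_lit 0, nat_lit 6, nat_lit 0])))
 (TT.l (Ty.srel [nat_lit 6]))))
 (TT.n (TT.n (TT.n (TT.l (Ty.dfn))
 (TT.l (Ty.srel [nat_lit 7, nat_lit 6, nat_lit 7, nat_lit 6, nat_lit 7])))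
 (TT.l (Ty.rel3 (nat_lit 0) (nat_lit 6) (nat_lit 0))))
 (TT.n (TT.n (TT.l (Ty.rel3 (nat_lit 2) (nat_lit 6) (nat_lit 2)))
 (TT.l (Ty.skip)))
 (TT.l (Ty.srel [nat_lit 9, nat_lit 6, nat_lit 9])))))
 (TT.n (TT.n (TT.n (TT.n (TT.l (Ty.rel1 (nat_lit 6)))
 (TT.l (Ty.srel [nat_lit 2, nat_lit 6, nat_lit 2])))
 (TT.l (Ty.rel3 (nat_lit 9) (nat_lit 6) (nat_lit 9))))
 (TT.n (TT.n (TT.l (Ty.rel3 (nat_lit 3) (nat_lit 6) (nat_lit 3)))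
 (TT.l (Ty.srel [nat_lit 1, nat_lit 6, nat_lit 1])))
 (TT.l (Ty.srel [nat_lit 4, nat_lit 6, nat_lit 4]))))
 (TT.n (TT.n (TT.n (TT.l (Ty.rel5 (nat_lit 5) (nat_lit 6) (nat_lit 5) (nat_lit 6) (nat_lit 5)))
 (TT.l (Ty.srel [nat_lit 3, nat_lit 6, nat_lit 3])))
 (TT.l (Ty.rel5 (nat_lit 7) (nat_lit 6) (nat_lit 7) (nat_lit 6) (nat_lit 7))))
 (TT.n (TT.l (Ty.rel3 (nat_lit 8) (nat_lit 6) (nat_lit 8)))
 (TT.l (Ty.srel [nat_lit 5, nat_lit 6, nat_lit 5, nat_lit 6, nat_lit 5]))))))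
noncomputable def ty7 : TT := (TT.n (TT.n (TT.n (TT.n (TT.n (TT.l (Ty.rel1 (nat_lit 7)))
 (TT.l (Ty.srel [nat_lit 6, nat_lit 7, nat_lit 6, nat_lit 7, nat_lit 6])))
 (TT.l (Ty.rel3 (nat_lit 1) (nat_lit 7) (nat_lit 1))))
 (TT.n (TT.n (TT.l (Ty.rel3 (nat_lit 4) (nat_lit 7) (nat_lit 4)))
 (TT.l (Ty.srel [nat_lit 5, nat_lit 7, nat_lit 5])))
 (TT.l (Ty.srel [nat_lit 2, nat_lit 7, nat_lit 2]))))
 (TT.n (TT.n (TT.n (TT.l (Ty.rel5 (nat_lit 6) (nat_lit 7) (nat_lit 6) (nat_lit 7) (nat_lit 6)))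
 (TT.l (Ty.srel [nat_lit 1, nat_lit 7, nat_lit 1])))
 (TT.l (Ty.rel3 (nat_lit 0) (nat_lit 7) (nat_lit 0))))
 (TT.n (TT.l (Ty.rel3 (nat_lit 2) (nat_lit 7) (nat_lit 2)))
 (TT.l (Ty.srel [nat_lit 9, nat_lit 7, nat_lit 9])))))
 (TT.n (TT.n (TT.n (TT.n (TT.l (Ty.dfn))
 (TT.l (Ty.srel [nat_lit 8, nat_lit 7, nat_lit 8])))
 (TT.l (Ty.rel3 (nat_lit 9) (nat_lit 7) (nat_lit 9))))
 (TT.n (TT.n (TT.l (Ty.rel3 (nat_lit 3) (nat_lit 7) (nat_lit 3)))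
 (TT.l (Ty.skip)))
 (TT.l (Ty.srel [nat_lit 4, nat_lit 7, nat_lit 4]))))
 (TT.n (TT.n (TT.n (TT.l (Ty.rel3 (nat_lit 5) (nat_lit 7) (nat_lit 5)))
 (TT.l (Ty.srel [nat_lit 0, nat_lit 7, nat_lit 0])))
 (TT.l (Ty.srel [nat_lit 7])))
 (TT.n (TT.l (Ty.rel3 (nat_lit 8) (nat_lit 7) (nat_lit 8)))
 (TT.l (Ty.srel [nat_lit 3, nat_lit 7, nat_lit 3]))))))
noncomputable def ty8 : TT := (TT.n (TT.n (TT.n (TT.n (TT.n (TT.l (Ty.ssub [] []))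
 (TT.l (Ty.srel [nat_lit 4, nat_lit 8, nat_lit 4])))
 (TT.n (TT.l (Ty.rel5 (nat_lit 3) (nat_lit 8) (nat_lit 3) (nat_lit 8) (nat_lit 3)))
 (TT.l (Ty.srel [nat_lit 3, nat_lit 5, nat_lit 4, nat_lit 3, nat_lit 1, nat_lit 2, nat_lit 3, nat_lit 9, nat_lit 8, nat_lit 3, nat_lit 5, nat_lit 4, nat_lit 3, nat_lit 1, nat_lit 2, nat_lit 3, nat_lit 9, nat_lit 8, nat_lit 3, nat_lit 5, nat_lit 4, nat_lit 3, nat_lit 1, nat_lit 2, nat_lit 3, nat_lit 9, nat_lit 8, nat_lit 3, nat_lit 5, nat_lit 4, nat_lit 3, nat_lit 1, nat_lit 2, nat_lit 3, nat_lit 9, nat_lit 8, nat_lit 3, nat_lit 5, nat_lit 4, nat_lit 3, nat_lit 1, nat_lit 2, nat_lit 3, nat_lit 9, nat_lit 8, nat_lit 3, nat_lit 5, nat_lit 4, nat_lit 3, nat_lit 1, nat_lit 2, nat_lit 3, nat_lit 9, nat_lit 8, nat_lit 3, nat_lit 5, nat_lit 4, nat_lit 3, nat_lit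 1, nat_lit 2, nat_lit 3, nat_lit 9, nat_lit 8, nat_lit 3, nat_lit 5, nat_lit 4, nat_lit 3, nat_lit 1, nat_lit 2, nat_lit 3, nat_lit 9, nat_lit 8, nat_lit 3, nat_lit 5, nat_lit 4, nat_lit 3, nat_lit 1, nat_lit 2, nat_lit 3, nat_lit 9, nat_lit 8, nat_lit 3, nat_lit 5, nat_lit 4, nat_lit 3, nat_lit 1, nat_lit 2, nat_lit 3, nat_lit 9]))))
 (TT.n (TT.n (TT.l (Ty.rel3 (nat_lit 4) (nat_lit 8) (nat_lit 4)))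
 (TT.l (Ty.srel [nat_lit 7, nat_lit 8, nat_lit 7])))
 (TT.l (Ty.srel [nat_lit 8]))))
 (TT.n (TT.n (TT.n (TT.l (Ty.rel3 (nat_lit 6) (nat_lit 8) (nat_lit 6)))
 (TT.l (Ty.srel [nat_lit 0, nat_lit 8, nat_lit 0])))
 (TT.l (Ty.rel3 (nat_lit 1) (nat_lit 8) (nat_lit 1))))
 (TT.n (TT.n (TT.l (Ty.dfn))
 (TT.l (Ty.srel [nat_lit 0, nat_lit 1, nat_lit 2, nat_lit 3, nat_lit 4, nat_lit 5, nat_lit 8, nat_lit 0, nat_lit 1, nat_lit 2, nat_lit 3, nat_lit 4, nat_lit 5, nat_lit 8, nat_lit 0, nat_lit 1, nat_lit 2, nat_lit 3, nat_lit 4, nat_lit 5, nat_lit 8, nat_lit 0, nat_lit 1, nat_lit 2, nat_lit 3, nat_lit 4, nat_lit 5, nat_lit 8, nat_lit 0, nat_lit 1, nat_lit 2, nat_lit 3, nat_lit 4, nat_lit 5, nat_lit 8, nat_lit 0, nat_lit 1, nat_lit 2, nat_lit 3, nat_lit 4, nat_lit 5, nat_lit 8, nat_lit 0, nat_lit 1, nat_lit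 2, nat_lit 3, nat_lit 4, nat_lit 5, nat_lit 8, nat_lit 0, nat_lit 1, nat_lit 2, nat_lit 3, nat_lit 4, nat_lit 5, nat_lit 8, nat_lit 0, nat_lit 1, nat_lit 2, nat_lit 3, nat_lit 4, nat_lit 5])))
 (TT.l (Ty.srel [nat_lit 3, nat_lit 8, nat_lit 3, nat_lit 8, nat_lit 3])))))
 (TT.n (TT.n (TT.n (TT.n (TT.l (Ty.rel3 (nat_lit 7) (nat_lit 8) (nat_lit 7)))
 (TT.l (Ty.srel [nat_lit 1, nat_lit 8, nat_lit 1])))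
 (TT.n (TT.l (Ty.rel3 (nat_lit 2) (nat_lit 8) (nat_lit 2)))
 (TT.l (Ty.skip))))
 (TT.n (TT.n (TT.l (Ty.rel1 (nat_lit 8)))
 (TT.l (Ty.srel [nat_lit 6, nat_lit 8, nat_lit 6])))
 (TT.l (Ty.relL (nat_lit 0) [nat_lit 1, nat_lit 2, nat_lit 3, nat_lit 4, nat_lit 5, nat_lit 8, nat_lit 0, nat_lit 1, nat_lit 2, nat_lit 3, nat_lit 4, nat_lit 5, nat_lit 8, nat_lit 0, nat_lit 1, nat_lit 2, nat_lit 3, nat_lit 4, nat_lit 5, nat_lit 8, nat_lit 0, nat_lit 1, nat_lit 2, nat_lit 3, nat_lit 4, nat_lit 5, nat_lit 8, nat_lit 0, nat_lit 1, nat_lit 2, nat_lit 3, nat_lit 4, nat_lit 5, nat_lit 8, nat_lit 0, nat_lit 1, nat_lit 2, nat_lit 3, nat_lit 4, nat_lit 5, nat_lit 8, nat_lit 0, nat_lit 1, nat_lit 2, nat_lit 3, nat_lit 4, nat_lit 5, nat_lit 8, nat_lit 0, nat_lit 1, nat_lit 2, nat_lit 3, nat_lit 4, nat_lit 5, nat_lit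 8, nat_lit 0, nat_lit 1, nat_lit 2, nat_lit 3, nat_lit 4, nat_lit 5]))))
 (TT.n (TT.n (TT.n (TT.l (Ty.rel3 (nat_lit 5) (nat_lit 8) (nat_lit 5)))
 (TT.l (Ty.srel [nat_lit 5, nat_lit 8, nat_lit 5])))
 (TT.l (Ty.rel3 (nat_lit 0) (nat_lit 8) (nat_lit 0))))
 (TT.n (TT.n (TT.l (Ty.rel5 (nat_lit 9) (nat_lit 8) (nat_lit 9) (nat_lit 8) (nat_lit 9)))
 (TT.l (Ty.srel [nat_lit 9, nat_lit 8, nat_lit 9, nat_lit 8, nat_lit 9])))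
 (TT.l (Ty.srel [nat_lit 2, nat_lit 8, nat_lit 2]))))))
noncomputable def ty9 : TT := (TT.n (TT.n (TT.n (TT.n (TT.n (TT.l (Ty.ssub [] []))
 (TT.l (Ty.srel [nat_lit 2, nat_lit 9, nat_lit 2])))
 (TT.l (Ty.rel3 (nat_lit 1) (nat_lit 9) (nat_lit 1))))
 (TT.n (TT.n (TT.l (Ty.rel3 (nat_lit 4) (nat_lit 9) (nat_lit 4)))
 (TT.l (Ty.srel [nat_lit 4, nat_lit 9, nat_lit 4])))
 (TT.l (Ty.srel [nat_lit 9]))))
 (TT.n (TT.n (TT.n (TT.l (Ty.rel3 (nat_lit 6) (nat_lit 9) (nat_lit 6)))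
 (TT.l (Ty.srel [nat_lit 3, nat_lit 9, nat_lit 3])))
 (TT.l (Ty.rel3 (nat_lit 0) (nat_lit 9) (nat_lit 0))))
 (TT.n (TT.n (TT.l (Ty.rel3 (nat_lit 2) (nat_lit 9) (nat_lit 2)))
 (TT.l (Ty.srel [nat_lit 3, nat_lit 2, nat_lit 1, nat_lit 3, nat_lit 4, nat_lit 5, nat_lit 3, nat_lit 8, nat_lit 9, nat_lit 3, nat_lit 2, nat_lit 1, nat_lit 3, nat_lit 4, nat_lit 5, nat_lit 3, nat_lit 8, nat_lit 9, nat_lit 3, nat_lit 2, nat_lit 1, nat_lit 3, nat_lit 4, nat_lit 5, nat_lit 3, nat_lit 8, nat_lit 9, nat_lit 3, nat_lit 2, nat_lit 1, nat_lit 3, nat_lit 4, nat_lit 5, nat_lit 3, nat_lit 8, nat_lit 9, nat_lit 3, nat_lit 2, nat_lit 1, nat_lit 3, nat_lit 4, nat_lit 5, nat_lit 3, nat_lit 8, nat_lit 9, nat_lit 3, nat_lit 2, nat_lit 1, nat_lit 3, nat_lit 4, nat_lit 5, nat_lit 3, nat_lit 8, nat_lit 9, nat_lit 3, nat_lit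 2, nat_lit 1, nat_lit 3, nat_lit 4, nat_lit 5, nat_lit 3, nat_lit 8, nat_lit 9, nat_lit 3, nat_lit 2, nat_lit 1, nat_lit 3, nat_lit 4, nat_lit 5, nat_lit 3, nat_lit 8, nat_lit 9, nat_lit 3, nat_lit 2, nat_lit 1, nat_lit 3, nat_lit 4, nat_lit 5, nat_lit 3, nat_lit 8, nat_lit 9, nat_lit 3, nat_lit 2, nat_lit 1, nat_lit 3, nat_lit 4, nat_lit 5, nat_lit 3, nat_lit 8])))
 (TT.l (Ty.srel [nat_lit 0, nat_lit 9, nat_lit 0])))))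
 (TT.n (TT.n (TT.n (TT.n (TT.l (Ty.rel3 (nat_lit 7) (nat_lit 9) (nat_lit 7)))
 (TT.l (Ty.srel [nat_lit 6, nat_lit 9, nat_lit 6])))
 (TT.l (Ty.dfn)))
 (TT.n (TT.n (TT.l (Ty.rel3 (nat_lit 3) (nat_lit 9) (nat_lit 3)))
 (TT.l (Ty.srel [nat_lit 1, nat_lit 9, nat_lit 1])))
 (TT.l (Ty.srel [nat_lit 8, nat_lit 9, nat_lit 8, nat_lit 9, nat_lit 8]))))
 (TT.n (TT.n (TT.n (TT.l (Ty.rel3 (nat_lit 5) (nat_lit 9) (nat_lit 5)))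
 (TT.l (Ty.srel [nat_lit 7, nat_lit 9, nat_lit 7])))
 (TT.l (Ty.rel5 (nat_lit 8) (nat_lit 9) (nat_lit 8) (nat_lit 9) (nat_lit 8))))
 (TT.n (TT.n (TT.l (Ty.rel1 (nat_lit 9)))
 (TT.l (Ty.skip)))
 (TT.l (Ty.srel [nat_lit 5, nat_lit 9, nat_lit 5]))))))
noncomputable def ty10 : TT := (TT.n (TT.n (TT.n (TT.n (TT.n (TT.n (TT.l (Ty.skip))
 (TT.l (Ty.srel [nat_lit 6, nat_lit 2, nat_lit 6, nat_lit 2])))
 (TT.l (Ty.relL (nat_lit 4) [nat_lit 8, nat_lit 4, nat_lit 8])))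
 (TT.n (TT.n (TT.l (Ty.relL (nat_lit 7) [nat_lit 3, nat_lit 7, nat_lit 3]))
 (TT.l (Ty.srel [nat_lit 6, nat_lit 0, nat_lit 6, nat_lit 0])))
 (TT.l (Ty.srel [nat_lit 4, nat_lit 5, nat_lit 8, nat_lit 0, nat_lit 1, nat_lit 2, nat_lit 3, nat_lit 4, nat_lit 5, nat_lit 8, nat_lit 0, nat_lit 1, nat_lit 2, nat_lit 3, nat_lit 4, nat_lit 5, nat_lit 8, nat_lit 0, nat_lit 1, nat_lit 2, nat_lit 3, nat_lit 4, nat_lit 5, nat_lit 8, nat_lit 0, nat_lit 1, nat_lit 2, nat_lit 3, nat_lit 4, nat_lit 5, nat_lit 8, nat_lit 0, nat_lit 1, nat_lit 2, nat_lit 3, nat_lit 4, nat_lit 5, nat_lit 8, nat_lit 0, nat_lit 1, nat_lit 2, nat_lit 3, nat_lit 4, nat_lit 5, nat_lit 8, nat_lit 0, nat_lit 1, nat_lit 2, nat_lit 3, nat_lit 4, nat_lit 5, nat_lit 8, nat_lit 0, nat_lit 1, nat_lit 2, nat_lit 3, nat_lit 4, nat_lit 5, nat_lit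 8, nat_lit 0, nat_lit 1, nat_lit 2, nat_lit 3]))))
 (TT.n (TT.n (TT.n (TT.l (Ty.srel [nat_lit 1, nat_lit 0, nat_lit 8, nat_lit 5, nat_lit 4, nat_lit 3, nat_lit 2, nat_lit 1, nat_lit 0, nat_lit 8, nat_lit 5, nat_lit 4, nat_lit 3, nat_lit 2, nat_lit 1, nat_lit 0, nat_lit 8, nat_lit 5, nat_lit 4, nat_lit 3, nat_lit 2, nat_lit 1, nat_lit 0, nat_lit 8, nat_lit 5, nat_lit 4, nat_lit 3, nat_lit 2, nat_lit 1, nat_lit 0, nat_lit 8, nat_lit 5, nat_lit 4, nat_lit 3, nat_lit 2, nat_lit 1, nat_lit 0, nat_lit 8, nat_lit 5, nat_lit 4, nat_lit 3, nat_lit 2, nat_lit 1, nat_lit 0, nat_lit 8, nat_lit 5, nat_lit 4, nat_lit 3, nat_lit 2, nat_lit 1, nat_lit 0, nat_lit 8, nat_lit 5, nat_lit 4, nat_lit 3, nat_lit 2, nat_lit 1, nat_lit 0, nat_lit 8, nat_lit 5, nat_lit 4, nat_lit 3, nat_lit 2]))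
 (TT.l (Ty.srel [nat_lit 5, nat_lit 0, nat_lit 5, nat_lit 0])))
 (TT.l (Ty.relL (nat_lit 3) [nat_lit 2, nat_lit 3, nat_lit 2, nat_lit 3, nat_lit 2])))
 (TT.n (TT.l (Ty.srel [nat_lit 5, nat_lit 2, nat_lit 5, nat_lit 2]))
 (TT.l (Ty.srel [nat_lit 2, nat_lit 0, nat_lit 2, nat_lit 0])))))
 (TT.n (TT.n (TT.n (TT.n (TT.l (Ty.relL (nat_lit 8) [nat_lit 2, nat_lit 8, nat_lit 2]))
 (TT.l (Ty.srel [nat_lit 0, nat_lit 2, nat_lit 0, nat_lit 2])))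
 (TT.l (Ty.relL (nat_lit 3) [nat_lit 6, nat_lit 3, nat_lit 6])))
 (TT.n (TT.l (Ty.srel [nat_lit 3, nat_lit 5, nat_lit 3, nat_lit 5]))
 (TT.l (Ty.relL (nat_lit 4) [nat_lit 0, nat_lit 4, nat_lit 0]))))
 (TT.n (TT.n (TT.n (TT.l (Ty.relL (nat_lit 5) [nat_lit 1, nat_lit 5, nat_lit 1]))
 (TT.l (Ty.srel [nat_lit 8, nat_lit 1, nat_lit 8, nat_lit 1])))
 (TT.l (Ty.relL (nat_lit 2) [nat_lit 4, nat_lit 2, nat_lit 4])))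
 (TT.n (TT.l (Ty.srel [nat_lit 4, nat_lit 8, nat_lit 4, nat_lit 8]))
 (TT.l (Ty.srel [nat_lit 4, nat_lit 0, nat_lit 4, nat_lit 0]))))))
 (TT.n (TT.n (TT.n (TT.n (TT.n (TT.l (Ty.relL (nat_lit 7) [nat_lit 2, nat_lit 7, nat_lit 2]))
 (TT.l (Ty.srel [nat_lit 6, nat_lit 1, nat_lit 6, nat_lit 1])))
 (TT.l (Ty.relL (nat_lit 2) [nat_lit 5, nat_lit 2, nat_lit 5])))
 (TT.n (TT.n (TT.l (Ty.relL (nat_lit 1) [nat_lit 3, nat_lit 4, nat_lit 5, nat_lit 3, nat_lit 8, nat_lit 9, nat_lit 3, nat_lit 2, nat_lit 1, nat_lit 3, nat_lit 4, nat_lit 5, nat_lit 3, nat_lit 8, nat_lit 9, nat_lit 3, nat_lit 2, nat_lit 1, nat_lit 3, nat_lit 4, nat_lit 5, nat_lit 3, nat_lit 8, nat_lit 9, nat_lit 3, nat_lit 2, nat_lit 1, nat_lit 3, nat_lit 4, nat_lit 5, nat_lit 3, nat_lit 8, nat_lit 9, nat_lit 3, nat_lit 2, nat_lit 1, nat_lit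 3, nat_lit 4, nat_lit 5, nat_lit 3, nat_lit 8, nat_lit 9, nat_lit 3, nat_lit 2, nat_lit 1, nat_lit 3, nat_lit 4, nat_lit 5, nat_lit 3, nat_lit 8, nat_lit 9, nat_lit 3, nat_lit 2, nat_lit 1, nat_lit 3, nat_lit 4, nat_lit 5, nat_lit 3, nat_lit 8, nat_lit 9, nat_lit 3, nat_lit 2, nat_lit 1, nat_lit 3, nat_lit 4, nat_lit 5, nat_lit 3, nat_lit 8, nat_lit 9, nat_lit 3, nat_lit 2, nat_lit 1, nat_lit 3, nat_lit 4, nat_lit 5, nat_lit 3, nat_lit 8, nat_lit 9, nat_lit 3, nat_lit 2, nat_lit 1, nat_lit 3, nat_lit 4, nat_lit 5, nat_lit 3, nat_lit 8, nat_lit 9, nat_lit 3, nat_lit 2]))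
 (TT.l (Ty.srel [nat_lit 1, nat_lit 4, nat_lit 1, nat_lit 4])))
 (TT.l (Ty.srel [nat_lit 0, nat_lit 4, nat_lit 0, nat_lit 4]))))
 (TT.n (TT.n (TT.n (TT.l (Ty.relL (nat_lit 4) [nat_lit 2, nat_lit 4, nat_lit 2]))
 (TT.l (Ty.srel [nat_lit 3, nat_lit 1, nat_lit 3, nat_lit 1])))
 (TT.l (Ty.srel [nat_lit 6, nat_lit 3, nat_lit 6, nat_lit 3])))
 (TT.n (TT.l (Ty.relL (nat_lit 4) [nat_lit 6, nat_lit 4, nat_lit 6]))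
 (TT.l (Ty.srel [nat_lit 3, nat_lit 0, nat_lit 3, nat_lit 0])))))
 (TT.n (TT.n (TT.n (TT.n (TT.l (Ty.relL (nat_lit 3) [nat_lit 4, nat_lit 3, nat_lit 4, nat_lit 3, nat_lit 4]))
 (TT.l (Ty.srel [nat_lit 9, nat_lit 2, nat_lit 9, nat_lit 2])))
 (TT.l (Ty.srel [nat_lit 5, nat_lit 7, nat_lit 5, nat_lit 7])))
 (TT.n (TT.l (Ty.srel [nat_lit 5, nat_lit 8, nat_lit 5, nat_lit 8]))
 (TT.l (Ty.srel [nat_lit 2, nat_lit 4, nat_lit 2, nat_lit 4]))))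
 (TT.n (TT.n (TT.n (TT.l (Ty.srel [nat_lit 4, nat_lit 5, nat_lit 3, nat_lit 8, nat_lit 9, nat_lit 3, nat_lit 2, nat_lit 1, nat_lit 3, nat_lit 4, nat_lit 5, nat_lit 3, nat_lit 8, nat_lit 9, nat_lit 3, nat_lit 2, nat_lit 1, nat_lit 3, nat_lit 4, nat_lit 5, nat_lit 3, nat_lit 8, nat_lit 9, nat_lit 3, nat_lit 2, nat_lit 1, nat_lit 3, nat_lit 4, nat_lit 5, nat_lit 3, nat_lit 8, nat_lit 9, nat_lit 3, nat_lit 2, nat_lit 1, nat_lit 3, nat_lit 4, nat_lit 5, nat_lit 3, nat_lit 8, nat_lit 9, nat_lit 3, nat_lit 2, nat_lit 1, nat_lit 3, nat_lit 4, nat_lit 5, nat_lit 3, nat_lit 8, nat_lit 9, nat_lit 3, nat_lit 2, nat_lit 1, nat_lit 3, nat_lit 4, nat_lit 5, nat_lit 3, nat_lit 8, nat_lit 9, nat_lit 3, nat_lit 2, nat_lit 1, nat_lit 3, nat_lit 4, nat_lit 5, nat_lit 3, nat_lit 8, nat_lit 9, nat_lit 3, nat_lit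 2, nat_lit 1, nat_lit 3, nat_lit 4, nat_lit 5, nat_lit 3, nat_lit 8, nat_lit 9, nat_lit 3, nat_lit 2, nat_lit 1, nat_lit 3, nat_lit 4, nat_lit 5, nat_lit 3, nat_lit 8, nat_lit 9, nat_lit 3, nat_lit 2, nat_lit 1, nat_lit 3]))
 (TT.l (Ty.srel [nat_lit 1, nat_lit 9, nat_lit 1, nat_lit 9])))
 (TT.l (Ty.relL (nat_lit 1) [nat_lit 3, nat_lit 1, nat_lit 3])))
 (TT.n (TT.l (Ty.relL (nat_lit 9) [nat_lit 7, nat_lit 9, nat_lit 7]))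
 (TT.l (Ty.srel [nat_lit 8, nat_lit 4, nat_lit 8, nat_lit 4])))))))
noncomputable def C : Cert where
  tabs := [tab0, tab1, tab2, tab3, tab4, tab5, tab6, tab7, tab8, tab9, tab10, tab11, tab12, tab13, tab14, tab15, tab16, tab17, tab18, tab19, tab20, tab21, tab22]
  tts := [ty0, ty1, ty2, ty3, ty4, ty5, ty6, ty7, ty8, ty9, ty10]
  k := nat_lit 8
  base := nat_lit 42
  mJ := nat_lit 65280
  mR := nat_lit 255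
  W := nat_lit 33
  mA := nat_lit 16777215
  mI := nat_lit 65535
  S := nat_lit 24
  mC := nat_lit 511
  nc := nat_lit 10
  lo := nat_lit 256
  live := nat_lit 31927
  hi1 := nat_lit 41628
  AW := nat_lit 22
  mAW := nat_lit 4194303
def il : List ℕ := [0, 1, 2, 3, 4, 5, 6, 7, 8, 9]
def rels : List (List ℕ) := [[0, 1, 0, 1, 0, 1],
  [0, 2, 0, 2],
  [0, 3, 0, 3],
  [0, 4, 0, 4],
  [0, 5, 0, 5],
  [0, 6, 0, 6],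
  [0, 7, 0, 7],
  [0, 8, 0, 8],
  [0, 9, 0, 9],
  [1, 2, 1, 2, 1, 2],
  [1, 3, 1, 3],
  [1, 4, 1, 4],
  [1, 5, 1, 5],
  [1, 6, 1, 6],
  [1, 7, 1, 7],
  [1, 8, 1, 8],
  [1, 9, 1, 9],
  [2, 3, 2, 3, 2, 3],
  [2, 4, 2, 4],
  [2, 5, 2, 5],
  [2, 6, 2, 6],
  [2, 7, 2, 7],
  [2, 8, 2, 8],
  [2, 9, 2, 9],
  [3, 4, 3, 4, 3, 4],
  [3, 5, 3, 5],
  [3, 6, 3, 6],
  [3, 7, 3, 7],
  [3, 8, 3, 8, 3, 8],
  [3, 9, 3, 9],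
  [4, 5, 4, 5, 4, 5],
  [4, 6, 4, 6],
  [4, 7, 4, 7],
  [4, 8, 4, 8],
  [4, 9, 4, 9],
  [5, 6, 5, 6, 5, 6],
  [5, 7, 5, 7],
  [5, 8, 5, 8],
  [5, 9, 5, 9],
  [6, 7, 6, 7, 6, 7],
  [6, 8, 6, 8],
  [6, 9, 6, 9],
  [7, 8, 7, 8],
  [7, 9, 7, 9],
  [8, 9, 8, 9, 8, 9],
  [3, 2, 1, 3, 4, 5, 3, 8, 9, 3, 2, 1, 3, 4, 5, 3, 8, 9, 3, 2, 1, 3, 4, 5, 3, 8, 9, 3, 2, 1, 3, 4, 5, 3, 8, 9, 3, 2, 1, 3, 4, 5, 3, 8, 9, 3, 2, 1, 3, 4, 5, 3, 8, 9, 3, 2, 1, 3, 4, 5, 3, 8, 9, 3, 2, 1, 3, 4, 5, 3, 8, 9, 3, 2, 1, 3, 4, 5, 3, 8, 9, 3, 2, 1, 3, 4, 5, 3, 8, 9],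
  [0, 1, 2, 3, 4, 5, 8, 0, 1, 2, 3, 4, 5, 8, 0, 1, 2, 3, 4, 5, 8, 0, 1, 2, 3, 4, 5, 8, 0, 1, 2, 3, 4, 5, 8, 0, 1, 2, 3, 4, 5, 8, 0, 1, 2, 3, 4, 5, 8, 0, 1, 2, 3, 4, 5, 8, 0, 1, 2, 3, 4, 5, 8]]
def subs : List (List ℕ) := [[0],
  [1],
  [2],
  [3],
  [4],
  [5],
  [6],
  [8],
  [9]]
theorem valid : C.valid il rels subs = true := by decide +kernel
end CfH6.F23T1
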